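import Cfsg.Agent.H60.SULow.MonoSix

set_option autoImplicit false
set_option linter.unusedSectionVars false

/-!
# Norm-one circles for the monomial subgroup of `SU` in dimension four
-/

namespace Cfsg.Agent.H60.SUFour

open scoped Matrix Classical
open Cfsg.Agent.H98 Cfsg.Agent.H3 Cfsg.Agent.H60.SULow

variable {F : Type*} [Field F] [Fintype F] {q : ℕ}
variable (hF : Fintype.card F = q ^ 2)
include hF

/-- Two trace images meet in a double point away from zero, one of them containing a fixed point. -/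
theorem exists_double_odd (hq : 5 ≤ q) (h2 : (2 : F) ≠ 0) {A B μ : F} (hA : A ≠ 0) (hB : B ≠ 0)
    (hμ : μ ^ (q + 1) = 1) (hreal : (μ * A) ^ q = μ * A) :
    (∃ ν₁ ν₂ ν' : F, ν₁ ^ (q + 1) = 1 ∧ ν₂ ^ (q + 1) = 1 ∧ ν' ^ (q + 1) = 1 ∧ ν₁ * ν₁ ≠ ν₂ * ν₂ ∧
      ν₁ * A + (ν₁ * A) ^ q + (ν' * B + (ν' * B) ^ q) = 0 ∧ ν₂ * A + (ν₂ * A) ^ q + (ν' * B + (ν' * B) ^ q) = 0) ∨
    (∃ ν₁ ν₂ ν' : F, ν₁ ^ (q + 1) = 1 ∧ ν₂ ^ (q + 1) = 1 ∧ ν' ^ (q + 1) = 1 ∧ ν₁ * ν₁ ≠ ν₂ * ν₂ ∧
      ν₁ * B + (ν₁ * B) ^ q + (ν' * A + (ν' * A) ^ q) = 0 ∧ ν₂ * B + (ν₂ * B) ^ q + (ν' * A + (ν' * A) ^ q) = 0) := by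
  have hq0 : q ≠ 0 := by omega
  have hneg : ∀ x : F, (-x) ^ q = -(x ^ q) := fun x => by
    rw [← conjQ_apply hF, map_neg, conjQ_apply hF]
  have hnegn : ∀ x : F, (-x) ^ (q + 1) = x ^ (q + 1) := fun x => by
    rw [pow_succ, pow_succ, hneg, neg_mul_neg]
  have hμ0 : μ ≠ 0 := fun h0 => by rw [h0, zero_pow (by omega)] at hμ; exact zero_ne_one hμ
  set c := μ * A with hc
  clear_value c
  have hc0 : c ≠ 0 := by rw [hc]; exact mul_ne_zero hμ0 hA
  by_cases hB' : ∃ μ' : F, μ' ^ (q + 1) = 1 ∧ μ' * B = c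
  · left
    obtain ⟨μ', hμ', hμB⟩ := hB'
    obtain ⟨ξ, hξ, hξ4⟩ : ∃ ξ : F, ξ ^ (q + 1) = 1 ∧ ξ ^ 4 ≠ 1 := by
      by_contra hall
      push Not at hall
      have hle : (normOne q F).card ≤ (Polynomial.nthRootsFinset 4 (1 : F)).card :=
        Finset.card_le_card fun a ha =>
          (Polynomial.mem_nthRootsFinset (by omega) _).mpr (hall a (mem_normOne.mp ha))
      have hnr : (Polynomial.nthRootsFinset 4 (1 : F)).card ≤ 4 := by
        rw [Polynomial.nthRootsFinset_def]
        exact (Multiset.toFinset_card_le _).trans (Polynomial.card_nthRoots _ _)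
      rw [card_normOne hF] at hle
      omega
    have hξξ := norm_one_conj hF hξ
    refine ⟨μ * ξ, μ * ξ ^ q, -(μ' * ξ), by rw [mul_pow, hμ, hξ, one_mul],
      by rw [mul_pow, hμ, ← pow_mul, mul_comm q, pow_mul, hξ, one_pow, one_mul],
      by rw [hnegn, mul_pow, hμ', hξ, one_mul], fun e => hξ4 ?_, ?_, ?_⟩
    · have e' : ξ * ξ = ξ ^ q * ξ ^ q := mul_left_cancel₀ (mul_ne_zero hμ0 hμ0) (by linear_combination e)
      linear_combination (ξ * ξ) * e' + (ξ * ξ ^ q + 1) * hξξ
    · rw [show μ * ξ * A = ξ * c by rw [hc]; ring, show -(μ' * ξ) * B = -(ξ * c) by rw [← hμB]; ring, hneg]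
      ring
    · rw [show μ * ξ ^ q * A = ξ ^ q * c by rw [hc]; ring, show -(μ' * ξ) * B = -(ξ * c) by rw [← hμB]; ring,
        hneg, mul_pow, mul_pow, hreal, pow_q_pow_q hF]
      ring
  push Not at hB'
  let f : F → F → F := fun A ν => ν * A + (ν * A) ^ q
  have hfix : ∀ A ν, f A ν ^ q = f A ν := fun A ν => by
    simp only [f]
    rw [add_pow_q hF, pow_q_pow_q hF, add_comm]
  have hfneg : ∀ A ν, f A (-ν) = -f A ν := fun A ν => by
    simp only [f]
    rw [neg_mul, hneg]
    ring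
  have hother : ∀ {A ν : F}, A ≠ 0 → ν ^ (q + 1) = 1 → ((ν * A) ^ q / A) ^ (q + 1) = 1 ∧
      f A ((ν * A) ^ q / A) = f A ν := by
    intro A ν hA hν
    refine ⟨?_, ?_⟩
    · rw [div_pow, ← pow_mul, mul_comm q, pow_mul, mul_pow, hν, one_mul, ← pow_mul, mul_comm (q + 1), pow_mul]
      rw [div_eq_one_iff_eq (pow_ne_zero _ hA), ← pow_mul, mul_comm q, pow_mul, norm_pow_q hF]
    · simp only [f]
      rw [div_mul_cancel₀ _ hA, pow_q_pow_q hF, add_comm]
  have hfib : ∀ {A : F}, A ≠ 0 → ∀ t, ((normOne q F).filter fun ν => f A ν = t).card ≤ 2 := by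
    intro A hA t
    by_cases he : ((normOne q F).filter fun ν => f A ν = t) = ∅
    · simp [he]
    obtain ⟨μ, hμ⟩ := Finset.nonempty_iff_ne_empty.mpr he
    rw [Finset.mem_filter, mem_normOne] at hμ
    refine (Finset.card_le_card (t := ({μ, (μ * A) ^ q / A} : Finset F)) fun ν hν => ?_).trans Finset.card_le_two
    rw [Finset.mem_filter, mem_normOne] at hν
    have e1 : ν * A + (ν * A) ^ q = μ * A + (μ * A) ^ q := hν.2.trans hμ.2.symm
    have e2 : (ν * A) * (ν * A) ^ q = (μ * A) * (μ * A) ^ q := by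
      rw [← pow_succ', ← pow_succ', mul_pow, mul_pow, hν.1, hμ.1]
    have e3 : (ν * A - μ * A) * (ν * A - (μ * A) ^ q) = 0 := by linear_combination (ν * A) * e1 - e2
    rw [Finset.mem_insert, Finset.mem_singleton]
    rcases mul_eq_zero.mp e3 with e | e
    · exact Or.inl (mul_right_cancel₀ hA (sub_eq_zero.mp e))
    · exact Or.inr (by rw [eq_div_iff hA]; exact sub_eq_zero.mp e)
  let img : F → Finset F := fun A => (normOne q F).image (f A)
  let one : F → Finset F := fun A => (img A).filter fun t => ((normOne q F).filter fun ν => f A ν = t).card ≤ 1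
  have hcount : ∀ {A : F}, A ≠ 0 → q + 1 + (one A).card ≤ 2 * (img A).card := by
    intro A hA
    have h1 := Finset.card_eq_sum_card_image (f A) (normOne q F)
    rw [card_normOne hF] at h1
    rw [h1]
    simp only [one, Finset.card_filter (fun t => ((normOne q F).filter fun ν => f A ν = t).card ≤ 1) (img A)]
    rw [← Finset.sum_add_distrib]
    refine (Finset.sum_le_sum (g := fun _ => 2) fun t _ => ?_).trans (by simp [img, mul_comm])
    have := hfib hA t
    split_ifs <;> omega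
  have hsingle : ∀ ν : F, ν ^ (q + 1) = 1 → (ν * A) ^ q = ν * A → f A ν ∈ one A := by
    intro ν hν hr
    refine Finset.mem_filter.mpr ⟨Finset.mem_image_of_mem _ (mem_normOne.mpr hν), ?_⟩
    refine (Finset.card_le_card (t := ({ν} : Finset F)) fun ξ hξ => ?_).trans (Finset.card_singleton ν).le
    rw [Finset.mem_filter, mem_normOne] at hξ
    rw [Finset.mem_singleton]
    have e1 : ξ * A + (ξ * A) ^ q = ν * A + (ν * A) ^ q := hξ.2
    have e2 : (ξ * A) * (ξ * A) ^ q = (ν * A) * (ν * A) ^ q := by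
      rw [← pow_succ', ← pow_succ', mul_pow, mul_pow, hξ.1, hν]
    have e3 : (ξ * A - ν * A) * (ξ * A - ν * A) = 0 := by
      linear_combination (ξ * A) * e1 - e2 + (ξ * A - ν * A) * hr
    exact mul_right_cancel₀ hA (sub_eq_zero.mp ((mul_self_eq_zero).mp e3))
  have hone : 2 ≤ (one A).card := by
    have hrA : (μ * A) ^ q = μ * A := by rw [← hc]; exact hreal
    have hs1 := hsingle μ hμ hrA
    have hs2 := hsingle (-μ) (by rw [hnegn, hμ]) (by rw [neg_mul, hneg, hrA])
    refine Finset.one_lt_card_iff.mpr ⟨_, _, hs1, hs2, ?_⟩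
    rw [hfneg]
    intro e
    simp only [f] at e
    rw [← hc, hreal] at e
    have h4 : (2 : F) * 2 * c = 0 := by linear_combination e
    exact hc0 ((mul_eq_zero.mp h4).resolve_left (mul_ne_zero h2 h2))
  set Q := Finset.univ.filter fun x : F => x ^ q = x with hQdef
  have hQ : Q.card = q := by
    rw [hQdef, ← Fintype.card_subtype, ← Nat.card_eq_fintype_card, card_fixed hF]
  have hun : (img A ∪ img B) ⊆ Q := fun t ht => by
    refine Finset.mem_filter.mpr ⟨Finset.mem_univ _, ?_⟩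
    simp only [img, Finset.mem_union, Finset.mem_image] at ht
    rcases ht with ⟨ν, -, rfl⟩ | ⟨ν, -, rfl⟩ <;> exact hfix _ _
  have hui := Finset.card_union_add_card_inter (img A) (img B)
  have hle := Finset.card_le_card hun
  have hcA := hcount hA
  have hcB := hcount hB
  obtain ⟨t, ht, ht0⟩ := Finset.exists_mem_notMem_of_card_lt_card (s := ({0} : Finset F)) (t := img A ∩ img B)
    (by rw [Finset.card_singleton]; omega)
  rw [Finset.mem_singleton] at ht0
  obtain ⟨ht1, ht2⟩ := Finset.mem_inter.mp ht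
  obtain ⟨ν, hν, hνt⟩ := Finset.mem_image.mp ht1
  obtain ⟨ν', hν', hν't⟩ := Finset.mem_image.mp ht2
  rw [mem_normOne] at hν hν'
  simp only [f] at hνt hν't
  -- a double point
  have hdouble : ∀ {A ν : F}, A ≠ 0 → ν ^ (q + 1) = 1 → ν * A + (ν * A) ^ q = t → (ν * A) ^ q ≠ ν * A →
      ν * ν ≠ (ν * A) ^ q / A * ((ν * A) ^ q / A) := by
    intro A ν hA hν hνt hne e
    have e' : (ν * A - (ν * A) ^ q) * (ν * A + (ν * A) ^ q) = 0 := by
      field_simp at e
      linear_combination e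
    rcases mul_eq_zero.mp e' with h1 | h1
    · exact hne (sub_eq_zero.mp h1).symm
    · exact ht0 (hνt.symm.trans h1)
  by_cases hr : (ν * A) ^ q = ν * A
  · right
    have hne : (ν' * B) ^ q ≠ ν' * B := by
      intro hr'
      have e1 : ν * A = ν' * B := mul_left_cancel₀ h2 (by linear_combination hνt - hν't - hr + hr')
      have e2 : (ν * A - c) * (ν * A + c) = 0 := by
        have e3 : (ν * A) * (ν * A) ^ q = c * c ^ q := by
          rw [← pow_succ', ← pow_succ', hc, mul_pow, mul_pow, hν, hμ]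
        rw [hr, hreal] at e3
        linear_combination e3
      rcases mul_eq_zero.mp e2 with e | e
      · exact hB' ν' hν' (by linear_combination e - e1)
      · exact hB' (-ν') (by rw [hnegn, hν']) (by linear_combination -e + e1)
    obtain ⟨hn, hv⟩ := hother hB hν'
    simp only [f] at hv
    refine ⟨ν', (ν' * B) ^ q / B, -ν, hν', hn, by rw [hnegn, hν], hdouble hB hν' hν't hne, ?_, ?_⟩
    · rw [neg_mul, hneg, hν't]; linear_combination -hνt
    · rw [neg_mul, hneg, hv, hν't]; linear_combination -hνt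
  · left
    obtain ⟨hn, hv⟩ := hother hA hν
    simp only [f] at hv
    refine ⟨ν, (ν * A) ^ q / A, -ν', hν, hn, by rw [hnegn, hν'], hdouble hA hν hνt hr, ?_, ?_⟩
    · rw [neg_mul, hneg, hνt]; linear_combination -hν't
    · rw [neg_mul, hneg, hv, hνt]; linear_combination -hν't

/-- Among three nonzero elements of a finite field two have square product. -/
theorem exists_pair_square {x y z : F} (hx : x ≠ 0) (hy : y ≠ 0) (hz : z ≠ 0) :
    IsSquare (x * y) ∨ IsSquare (x * z) ∨ IsSquare (y * z) := by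
  have h : ∀ {a b : F}, a ≠ 0 → b ≠ 0 → (IsSquare a ↔ IsSquare b) → IsSquare (a * b) := by
    intro a b ha hb hab
    by_cases h1 : IsSquare a
    · exact h1.mul (hab.mp h1)
    · have h3 := mt hab.mpr h1
      rw [← quadraticChar_one_iff_isSquare (mul_ne_zero ha hb), map_mul]
      rw [← quadraticChar_neg_one_iff_not_isSquare] at h1 h3
      rw [h1, h3]
      norm_num
  by_cases h1 : IsSquare x ↔ IsSquare y
  · exact Or.inl (h hx hy h1)
  by_cases h2 : IsSquare x ↔ IsSquare z
  · exact Or.inr (Or.inl (h hx hz h2))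
  exact Or.inr (Or.inr (h hy hz (by tauto)))

end Cfsg.Agent.H60.SUFour
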