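import Cfsg.Agent.H60.SUFour.MonoCount
import Cfsg.Agent.H60.SULow.FrameTwo

set_option autoImplicit false
set_option linter.unusedSectionVars false

/-!
# The monomial subgroup of `SU` in dimension four

For `q > 3` conjugates of monomial elements cannot spread; for `q = 2` a weight four centre appears at once.
-/

namespace Cfsg.Agent.H60.SUFour

open scoped Matrix Classical
open Cfsg.Agent.H98 Cfsg.Agent.H3 Cfsg.Agent.H60.SULow

variable {F : Type*} [Field F] [Fintype F] {q n t k : ℕ}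

local notation "Mat" => Matrix (Fin n) (Fin n) F
local notation "h" => Cfsg.hermForm n F q
local notation "G₁" => Cfsg.GU n F q ⊓ Cfsg.Geo.specialLinear (Fin n) F

variable (hF : Fintype.card F = q ^ 2)
include hF

/-- There are norm-one elements off the fourth roots of unity. -/
theorem exists_pow_four_ne (hq : 4 ≤ q) : ∃ a : F, a ^ (q + 1) = 1 ∧ a ^ 4 ≠ 1 := by
  by_contra hall
  push Not at hall
  have hle : (normOne q F).card ≤ (Polynomial.nthRootsFinset 4 (1 : F)).card :=
    Finset.card_le_card fun a ha =>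
      (Polynomial.mem_nthRootsFinset (by omega) _).mpr (hall a (mem_normOne.mp ha))
  have hnr : (Polynomial.nthRootsFinset 4 (1 : F)).card ≤ 4 := by
    rw [Polynomial.nthRootsFinset_def]
    exact (Multiset.toFinset_card_le _).trans (Polynomial.card_nthRoots _ _)
  rw [card_normOne hF] at hle
  omega

section Spread

variable {M : Subgroup (GL (Fin n) F)} (hMK : M ≤ Cfsg.GU n F q ⊓ Cfsg.Geo.specialLinear (Fin n) F) (hdiag : HasDiag q M) (hspread : Spreading M)
include hMK hdiag hspread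

/-- Every row of a mixed element has at most one zero. -/
theorem one_zero_row₄ (hq : 4 ≤ q) {g : GL (Fin n) F} (hg : g ∈ M) (hgm : ¬ IsMonom g) {c d d' : Fin n}
    (hd : ((g : Mat) *ᵥ Pi.single d 1) c = 0) (hd' : ((g : Mat) *ᵥ Pi.single d' 1) c = 0) : d = d' := by
  by_contra hdd
  have hq0 : q ≠ 0 := by omega
  have hgI : ∀ a b, h ((g : Mat) *ᵥ a) ((g : Mat) *ᵥ b) = h a b := (hMK hg).1
  obtain ⟨hcard, hsub⟩ := two_zeros_two hF hMK hdiag hspread (by omega) hg hgm hdd hd hd'
  obtain ⟨-, hsub'⟩ := two_zeros_two hF hMK hdiag hspread (by omega) hg hgm (Ne.symm hdd) hd' hd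
  set r := (g : Mat) *ᵥ Pi.single d 1 with hrdef
  set r' := (g : Mat) *ᵥ Pi.single d' 1 with hr'def
  have hax : ¬ IsAxis r := fun hh => hgm (hspread g hg d hh)
  unfold IsAxis at hax
  push Not at hax
  obtain ⟨p, o, hp, ho, hpo⟩ := hax
  have hsupp : ∀ z, z ≠ p → z ≠ o → r z = 0 := fun z h1 h2 => by
    by_contra hz
    have := Finset.card_le_card (s := ({p, o, z} : Finset (Fin n)))
      (t := Finset.univ.filter fun w => r w ≠ 0) (fun w hw => by
        simp only [Finset.mem_insert, Finset.mem_singleton] at hw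
        rw [Finset.mem_filter]
        rcases hw with rfl | rfl | rfl <;> exact ⟨Finset.mem_univ _, by assumption⟩)
    rw [Finset.card_eq_three.mpr ⟨p, o, z, hpo, Ne.symm h1, Ne.symm h2, rfl⟩] at this
    omega
  have hsupp' : ∀ z, z ≠ p → z ≠ o → r' z = 0 := fun z h1 h2 => by
    by_contra hz
    exact hsub' z hz (hsupp z h1 h2)
  have hp' := hsub p hp
  have ho' := hsub o ho
  have hsum : ∀ u w : Fin n → F, (∀ z, z ≠ p → z ≠ o → w z = 0) →
      h u w = u p * w p ^ q + u o * w o ^ q := fun u w hw => by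
    rw [Cfsg.hermForm]
    exact Fintype.sum_eq_add p o hpo fun z hz => by rw [hw z hz.1 hz.2, zero_pow hq0, mul_zero]
  have hrr : h r r = 1 := by rw [hrdef, hgI, herm_single_right hF, Pi.single_eq_same]
  have hrr' : h r' r' = 1 := by rw [hr'def, hgI, herm_single_right hF, Pi.single_eq_same]
  have horth : h r r' = 0 := by rw [hrdef, hr'def, hgI, herm_single_right hF, Pi.single_eq_of_ne (Ne.symm hdd)]
  have horth' : h r' r = 0 := (hermForm_eq_zero_comm hF).mp horth
  rw [hsum _ _ hsupp] at hrr horth'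
  rw [hsum _ _ hsupp'] at hrr' horth
  have hN : r p * r p ^ q + r' p * r' p ^ q = 1 := by
    linear_combination
      (r' p * r p ^ q) * horth - (r o * r' o ^ q) * horth' + (r o * r o ^ q) * hrr' +
      (1 - r' p * r' p ^ q) * hrr
  have hA : r p ^ q * r o + r' p ^ q * r' o = 0 := by
    have : (r p ^ q * r o + r' p ^ q * r' o) * r' o ^ q = 0 := by
      linear_combination r p ^ q * horth + r' p ^ q * hrr' - r' p ^ q * hN
    exact (mul_eq_zero.mp this).resolve_right (pow_ne_zero q ho')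
  -- a parameter avoiding four values
  set N := r p * r p ^ q with hNdef
  have hN0 : N ≠ 0 := mul_ne_zero hp (pow_ne_zero q hp)
  obtain ⟨a, ha, ha2, haN⟩ : ∃ a : F, a ^ (q + 1) = 1 ∧ a ^ 2 ≠ 1 ∧ a ^ 2 ≠ (N - 1) / N := by
    by_contra hall
    push Not at hall
    have hsub : normOne q F ⊆ Polynomial.nthRootsFinset 2 (1 : F) ∪ Polynomial.nthRootsFinset 2 ((N - 1) / N) := by
      intro a ha
      rw [Finset.mem_union, Polynomial.mem_nthRootsFinset two_pos, Polynomial.mem_nthRootsFinset two_pos]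
      by_cases h1 : a ^ 2 = 1
      · exact Or.inl h1
      · exact Or.inr (hall a (mem_normOne.mp ha) h1)
    have hroots : ∀ z : F, (Polynomial.nthRootsFinset 2 z).card ≤ 2 := fun z => by
      rw [Polynomial.nthRootsFinset_def]
      exact (Multiset.toFinset_card_le _).trans (Polynomial.card_nthRoots _ _)
    have := (Finset.card_le_card hsub).trans ((Finset.card_union_le _ _).trans
      (Nat.add_le_add (hroots _) (hroots _)))
    rw [card_normOne hF] at this
    omega
  have haa := norm_one_conj hF ha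
  let δ : Fin n → F := fun z => if z = d then a else if z = d' then a ^ q else 1
  have hδ : ∀ z, δ z ^ (q + 1) = 1 := fun z => by
    simp only [δ]
    split_ifs
    · exact ha
    · rw [← pow_mul, mul_comm, pow_mul, ha, one_pow]
    · exact one_pow _
  have hδp : ∏ z, δ z = 1 := by
    rw [Fintype.prod_eq_mul d d' hdd fun z hz => by simp [δ, hz.1, hz.2]]
    simp [δ, Ne.symm hdd, haa]
  have hx := conj_pair hF (hMK hg).1 hdd hδ (a := a) (by simp [δ]) (by simp [δ, Ne.symm hdd])
    (fun z h1 h2 => by simp [δ, h1, h2])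
  have hmon := hspread _ (M.mul_mem (M.mul_mem hg (hdiag δ hδ hδp)) (M.inv_mem hg)) c (by
    rw [hx, hermForm_single_left, hermForm_single_left, ← hrdef, ← hr'def, hd, hd', zero_pow hq0]
    simpa using isAxis_single c)
  refine hpo (hmon p p o ?_ ?_)
  · rw [hx, hermForm_single_left, hermForm_single_left, ← hrdef, ← hr'def]
    simp only [Pi.add_apply, Pi.smul_apply, Pi.single_eq_same, smul_eq_mul, one_mul]
    intro e
    refine haN ?_
    rw [eq_div_iff hN0]
    linear_combination a * e - (a * a ^ q - a) * hN + (N - 1) * haa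
  · rw [hx, hermForm_single_left, hermForm_single_left, ← hrdef, ← hr'def]
    simp only [Pi.add_apply, Pi.smul_apply, Pi.single_eq_of_ne (Ne.symm hpo), smul_eq_mul, one_mul]
    intro e
    have : (a - a ^ q) * (r p ^ q * r o) = 0 := by linear_combination e - (a ^ q - 1) * hA
    rcases mul_eq_zero.mp this with h1 | h1
    · exact ha2 (by linear_combination a * h1 + haa)
    · exact mul_ne_zero (pow_ne_zero q hp) ho h1

/-- Every column of a mixed element has at most one zero. -/
theorem one_zero_col₄ (hq : 4 ≤ q) {g : GL (Fin n) F} (hg : g ∈ M) (hgm : ¬ IsMonom g) {c c' d : Fin n}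
    (hc : ((g : Mat) *ᵥ Pi.single d 1) c = 0) (hc' : ((g : Mat) *ᵥ Pi.single d 1) c' = 0) : c = c' := by
  have hq0 : q ≠ 0 := by omega
  exact one_zero_row₄ hF hMK hdiag hspread hq (M.inv_mem hg) (fun h' => hgm (monom_inv h'))
    (c := d) (by rw [inv_entry hF (hMK hg).1, hc, zero_pow hq0])
    (by rw [inv_entry hF (hMK hg).1, hc', zero_pow hq0])

end Spread

/-- A conjugate pair of homologies with full axes is not monomial in dimension four. -/
theorem pair_not_monom (hn : n = 4) {x : GL (Fin n) F} {r r' : Fin n → F} {α : F} (hα : α ^ (q + 1) = 1)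
    (hα2 : α ^ 2 ≠ 1) (hr : h r r = 1) (hr' : h r' r' = 1) (horth : h r r' = 0) (hfull : ∀ l, r l ≠ 0)
    (hfull' : ∀ l, r' l ≠ 0)
    (hx : ∀ v, (x : Mat) *ᵥ v = v + ((α - 1) * h v r) • r + ((α ^ q - 1) * h v r') • r') : ¬ IsMonom x := by
  intro hmon
  have hαα := norm_one_conj hF hα
  have horth' : h r' r = 0 := (hermForm_eq_zero_comm hF).mp horth
  by_cases hfix : ∃ l, ((x : Mat) *ᵥ Pi.single l 1) l ≠ 0
  · obtain ⟨l, hl⟩ := hfix
    obtain ⟨m, a, -, hm⟩ := exists_axis (hmon l) (gl_single_ne_zero x l)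
    have hml : m = l := by
      by_contra hne
      exact hl (by rw [hm]; simp [Ne.symm hne])
    subst hml
    rw [hx] at hm
    have h1 := congrArg (fun v => h v r) hm
    have h2 := congrArg (fun v => h v r') hm
    simp only [hermForm_add_left hF, hermForm_smul_left hF, hr, hr', horth, horth', hermForm_single_left,
      mul_one, mul_zero, add_zero, one_mul] at h1 h2
    have hne : ∀ o, r o ^ q ≠ 0 ∧ r' o ^ q ≠ 0 := fun o => ⟨pow_ne_zero q (hfull o), pow_ne_zero q (hfull' o)⟩
    have e1 : α = a := mul_right_cancel₀ (hne m).1 (by linear_combination h1)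
    have e2 : α ^ q = a := mul_right_cancel₀ (hne m).2 (by linear_combination h2)
    exact hα2 (by linear_combination α * e1 - α * e2 + hαα)
  · push Not at hfix
    have hsum : (0 : F) = ∑ l : Fin n, (1 + (α - 1) * (r l * r l ^ q) + (α ^ q - 1) * (r' l * r' l ^ q)) := by
      refine (Finset.sum_eq_zero fun l _ => ?_).symm
      rw [← hfix l, hx, hermForm_single_left, hermForm_single_left]
      simp only [Pi.add_apply, Pi.smul_apply, Pi.single_eq_same, smul_eq_mul, one_mul]
      ring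
    rw [Finset.sum_add_distrib, Finset.sum_add_distrib, ← Finset.mul_sum, ← Finset.mul_sum, Finset.sum_const,
      Finset.card_univ, Fintype.card_fin, nsmul_eq_mul, mul_one, show (n : F) = 4 by rw [hn]; norm_num] at hsum
    rw [show ∑ l, r l * r l ^ q = h r r from rfl, show ∑ l, r' l * r' l ^ q = h r' r' from rfl, hr, hr'] at hsum
    have hsq : (α + 1) * (α + 1) = 0 := by push_cast at hsum; linear_combination -α * hsum - hαα
    exact hα2 (by linear_combination (α - 1) * mul_self_eq_zero.mp hsq)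

variable {M : Subgroup (GL (Fin n) F)}

/-- Some mixed element has a zero entry. -/
theorem exists_zero₄ (hn : n = 4) (hq : 4 ≤ q) (hMK : M ≤ G₁) (hmono : ∀ m ∈ G₁, IsMonom m → m ∈ M)
    {g : GL (Fin n) F} (hg : g ∈ M) (hgm : ¬ IsMonom g) :
    ∃ x ∈ M, ¬ IsMonom x ∧ ∃ c d, (((x : GL (Fin n) F) : Mat) *ᵥ Pi.single c 1) d = 0 := by
  by_cases hz : ∃ c d, ((g : Mat) *ᵥ Pi.single c 1) d = 0
  · exact ⟨g, hg, hgm, hz⟩
  push Not at hz
  have hq0 : q ≠ 0 := by omega
  have hgU : g ∈ Cfsg.GU n F q := (hMK hg).1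
  have hgI : ∀ a b, h ((g : Mat) *ᵥ a) ((g : Mat) *ᵥ b) = h a b := hgU
  let c : Fin n := ⟨0, by omega⟩
  set u := ((g⁻¹ : GL (Fin n) F) : Mat) *ᵥ Pi.single c 1 with hu
  let G : Fin n → F := fun l => ((g : Mat) *ᵥ Pi.single l 1) c
  have hul : ∀ l, u l = G l ^ q := fun l => by rw [hu, inv_entry hF hgU]
  -- the diagonal entries
  have hdiagonal : ∀ i j a b : Fin n, i ≠ j → a ≠ b → i ≠ a → i ≠ b → j ≠ a → j ≠ b → ∀ ν ν' : F,
      ν ^ (q + 1) = 1 → ν' ^ (q + 1) = 1 → ∃ m ∈ G₁, IsMonom m ∧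
        (∀ v l, ((m : GL (Fin n) F) : Mat).mulVec v l = (if l = i then ν * v j else if l = j then ν ^ q * v i else
          if l = a then ν' * v b else if l = b then ν' ^ q * v a else v l)) ∧
        (((g * m * g⁻¹ : GL (Fin n) F) : Mat) *ᵥ Pi.single c 1) c =
          ν * (G i * u j) + (ν * (G i * u j)) ^ q + (ν' * (G a * u b) + (ν' * (G a * u b)) ^ q) +
            ∑ l ∈ ({i, j, a, b} : Finset (Fin n))ᶜ, G l * u l := by
    intro i j a b hij hab hia hib hja hjb ν ν' hν hν'
    let s : Fin n → F := fun l =>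
      if l = i then ν else if l = j then ν ^ q else if l = a then ν' else if l = b then ν' ^ q else 1
    have hs : ∀ l, s l ^ (q + 1) = 1 := fun l => by
      simp only [s]
      split_ifs
      · exact hν
      · rw [← pow_mul, mul_comm, pow_mul, hν, one_pow]
      · exact hν'
      · rw [← pow_mul, mul_comm, pow_mul, hν', one_pow]
      · exact one_pow _
    have hsp : ∏ l, s l = 1 := by
      rw [← Finset.prod_subset (Finset.subset_univ ({i, j, a, b} : Finset (Fin n))) fun l _ hl => by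
        simp only [Finset.mem_insert, Finset.mem_singleton, not_or] at hl
        simp [s, hl.1, hl.2.1, hl.2.2.1, hl.2.2.2]]
      rw [Finset.prod_insert (by simp [hij, hia, hib]), Finset.prod_insert (by simp [hja, hjb]),
        Finset.prod_insert (by simp [hab]), Finset.prod_singleton]
      simp only [s, if_true, hij.symm, hia.symm, hja.symm, hib.symm, hjb.symm, hab.symm, if_false]
      linear_combination (ν' * ν' ^ q) * norm_one_conj hF hν + norm_one_conj hF hν'
    set π := Equiv.swap i j * Equiv.swap a b with hπ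
    obtain ⟨m, hm, hmv⟩ := exists_mono_of_prod hF π s hs (by
      rw [hsp, hπ, map_mul, Equiv.Perm.sign_swap hij, Equiv.Perm.sign_swap hab]; norm_num)
    have hπi : π.symm i = j := by rw [Equiv.symm_apply_eq, hπ, Equiv.Perm.mul_apply,
      Equiv.swap_apply_of_ne_of_ne hja hjb, Equiv.swap_apply_right]
    have hπj : π.symm j = i := by rw [Equiv.symm_apply_eq, hπ, Equiv.Perm.mul_apply,
      Equiv.swap_apply_of_ne_of_ne hia hib, Equiv.swap_apply_left]
    have hπa : π.symm a = b := by rw [Equiv.symm_apply_eq, hπ, Equiv.Perm.mul_apply,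
      Equiv.swap_apply_right, Equiv.swap_apply_of_ne_of_ne hia.symm hja.symm]
    have hπb : π.symm b = a := by rw [Equiv.symm_apply_eq, hπ, Equiv.Perm.mul_apply,
      Equiv.swap_apply_left, Equiv.swap_apply_of_ne_of_ne hib.symm hjb.symm]
    have hπo : ∀ l, l ≠ i → l ≠ j → l ≠ a → l ≠ b → π.symm l = l := fun l h1 h2 h3 h4 => by
      rw [Equiv.symm_apply_eq, hπ, Equiv.Perm.mul_apply, Equiv.swap_apply_of_ne_of_ne h3 h4,
        Equiv.swap_apply_of_ne_of_ne h1 h2]
    have hform : ∀ v l, (m : Mat).mulVec v l = (if l = i then ν * v j else if l = j then ν ^ q * v i else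
        if l = a then ν' * v b else if l = b then ν' ^ q * v a else v l) := fun v l => by
      rw [hmv]
      simp only [s]
      split_ifs with h1 h2 h3 h4
      · rw [h1, hπi]
      · rw [h2, hπj]
      · rw [h3, hπa]
      · rw [h4, hπb]
      · rw [hπo l h1 h2 h3 h4, one_mul]
    refine ⟨m, hm, isMonom_of_mono hmv, hform, ?_⟩
    rw [Units.val_mul, Units.val_mul, ← Matrix.mulVec_mulVec, ← Matrix.mulVec_mulVec, ← hu]
    set w := (m : Mat) *ᵥ u with hw
    have hgw : ((g : Mat) *ᵥ w) c = ∑ l, G l * w l := by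
      simp only [G, Matrix.mulVec_single_one]; rfl
    rw [hgw, ← Finset.sum_add_sum_compl ({i, j, a, b} : Finset (Fin n))]
    congr 1
    · rw [Finset.sum_insert (by simp [hij, hia, hib]), Finset.sum_insert (by simp [hja, hjb]),
        Finset.sum_insert (by simp [hab]), Finset.sum_singleton, hw, hform, hform, hform, hform]
      simp only [if_true, hij.symm, hia.symm, hja.symm, hib.symm, hjb.symm, hab.symm, if_false, hul]
      simp only [mul_pow, pow_q_pow_q hF]
      ring
    · refine Finset.sum_congr rfl fun l hl => ?_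
      simp only [Finset.mem_compl, Finset.mem_insert, Finset.mem_singleton, not_or] at hl
      rw [hw, hform, if_neg hl.1, if_neg hl.2.1, if_neg hl.2.2.1, if_neg hl.2.2.2]
  -- two choices differing by a pair of homologies
  have key : ∀ i j a b : Fin n, i ≠ j → a ≠ b → i ≠ a → i ≠ b → j ≠ a → j ≠ b → ∀ ν₁ ν₂ ν' : F,
      ν₁ ^ (q + 1) = 1 → ν₂ ^ (q + 1) = 1 → ν' ^ (q + 1) = 1 → ν₁ * ν₁ ≠ ν₂ * ν₂ →
      ν₁ * (G i * u j) + (ν₁ * (G i * u j)) ^ q + (ν' * (G a * u b) + (ν' * (G a * u b)) ^ q) =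
        -∑ l ∈ ({i, j, a, b} : Finset (Fin n))ᶜ, G l * u l →
      ν₂ * (G i * u j) + (ν₂ * (G i * u j)) ^ q + (ν' * (G a * u b) + (ν' * (G a * u b)) ^ q) =
        -∑ l ∈ ({i, j, a, b} : Finset (Fin n))ᶜ, G l * u l →
      ∃ x ∈ M, ¬ IsMonom x ∧ ∃ c d, (((x : GL (Fin n) F) : Mat) *ᵥ Pi.single c 1) d = 0 := by
    intro i j a b hij hab hia hib hja hjb ν₁ ν₂ ν' hν₁ hν₂ hν' hne e₁ e₂
    obtain ⟨m₁, hm₁, hm₁m, hf₁, hc₁⟩ := hdiagonal i j a b hij hab hia hib hja hjb ν₁ ν' hν₁ hν'
    obtain ⟨m₂, hm₂, hm₂m, hf₂, hc₂⟩ := hdiagonal i j a b hij hab hia hib hja hjb ν₂ ν' hν₂ hν'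
    have hy₁ := M.mul_mem (M.mul_mem hg (hmono m₁ hm₁ hm₁m)) (M.inv_mem hg)
    have hy₂ := M.mul_mem (M.mul_mem hg (hmono m₂ hm₂ hm₂m)) (M.inv_mem hg)
    by_cases hm1 : IsMonom (g * m₁ * g⁻¹)
    swap
    · exact ⟨_, hy₁, hm1, c, c, by rw [hc₁, e₁, neg_add_cancel]⟩
    by_cases hm2 : IsMonom (g * m₂ * g⁻¹)
    swap
    · exact ⟨_, hy₂, hm2, c, c, by rw [hc₂, e₂, neg_add_cancel]⟩
    exfalso
    set α := ν₁ * ν₂ ^ q with hα
    have hα1 : α ^ (q + 1) = 1 := by rw [hα, mul_pow, hν₁, ← pow_mul, mul_comm q, pow_mul, hν₂, one_pow, one_mul]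
    have hα2 : α ^ 2 ≠ 1 := fun e => hne (by
      linear_combination (ν₂ * ν₂) * e - ν₁ * ν₁ * (ν₂ * ν₂ ^ q + 1) * norm_one_conj hF hν₂)
    let δ : Fin n → F := fun l => if l = i then α else if l = j then α ^ q else 1
    have hδ : ∀ l, δ l ^ (q + 1) = 1 := fun l => by
      simp only [δ]
      split_ifs
      · exact hα1
      · rw [← pow_mul, mul_comm, pow_mul, hα1, one_pow]
      · exact one_pow _
    have hm12 : (guDiag (q := q) δ hδ).1 * m₂ = m₁ := by
      refine gl_ext fun v => funext fun l => ?_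
      rw [Units.val_mul, ← Matrix.mulVec_mulVec]
      simp only [guDiag, Matrix.mulVec_diagonal]
      rw [hf₁, hf₂]
      simp only [δ]
      by_cases h1 : l = i
      · subst h1; simp [hα]; linear_combination (ν₁ * v j) * norm_one_conj hF hν₂
      by_cases h2 : l = j
      · subst h2
        simp [h1, hα, mul_pow, pow_q_pow_q hF]
        linear_combination (ν₁ ^ q * v i) * norm_one_conj hF hν₂
      simp [h1, h2]
    have hx : (g * (guDiag (q := q) δ hδ).1 * g⁻¹ : GL (Fin n) F) = g * m₁ * g⁻¹ * (g * m₂ * g⁻¹)⁻¹ := by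
      rw [← hm12]; group
    have hmon : IsMonom (g * (guDiag (q := q) δ hδ).1 * g⁻¹) := by
      rw [hx]; exact monom_mul hm1 (monom_inv (by rw [inv_inv]; exact hm2))
    have hform := conj_pair hF hgU hij hδ (a := α) (by simp [δ]) (by simp [δ, hij.symm])
      (fun l h1 h2 => by simp [δ, h1, h2])
    exact pair_not_monom hF hn hα1 hα2 (by rw [hgI, herm_single_right hF, Pi.single_eq_same])
      (by rw [hgI, herm_single_right hF, Pi.single_eq_same])
      (by rw [hgI, herm_single_right hF, Pi.single_eq_of_ne hij.symm]) (hz i) (hz j) hform hmon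
  have hne : ∀ l o, G l * u o ≠ 0 := fun l o => by
    rw [hul]; exact mul_ne_zero (hz l c) (pow_ne_zero q (hz o c))
  -- any ordering of the four coordinates
  have finish : ∀ i j a b : Fin n, i ≠ j → a ≠ b → i ≠ a → i ≠ b → j ≠ a → j ≠ b →
      ((∃ ν₁ ν₂ ν' : F, ν₁ ^ (q + 1) = 1 ∧ ν₂ ^ (q + 1) = 1 ∧ ν' ^ (q + 1) = 1 ∧ ν₁ * ν₁ ≠ ν₂ * ν₂ ∧
        ν₁ * (G i * u j) + (ν₁ * (G i * u j)) ^ q + (ν' * (G a * u b) + (ν' * (G a * u b)) ^ q) = 0 ∧
        ν₂ * (G i * u j) + (ν₂ * (G i * u j)) ^ q + (ν' * (G a * u b) + (ν' * (G a * u b)) ^ q) = 0) ∨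
      (∃ ν₁ ν₂ ν' : F, ν₁ ^ (q + 1) = 1 ∧ ν₂ ^ (q + 1) = 1 ∧ ν' ^ (q + 1) = 1 ∧ ν₁ * ν₁ ≠ ν₂ * ν₂ ∧
        ν₁ * (G a * u b) + (ν₁ * (G a * u b)) ^ q + (ν' * (G i * u j) + (ν' * (G i * u j)) ^ q) = 0 ∧
        ν₂ * (G a * u b) + (ν₂ * (G a * u b)) ^ q + (ν' * (G i * u j) + (ν' * (G i * u j)) ^ q) = 0)) →
      ∃ x ∈ M, ¬ IsMonom x ∧ ∃ c d, (((x : GL (Fin n) F) : Mat) *ᵥ Pi.single c 1) d = 0 := by
    intro i j a b hij hab hia hib hja hjb hd
    have hu4 : ∀ i j a b : Fin n, i ≠ j → a ≠ b → i ≠ a → i ≠ b → j ≠ a → j ≠ b →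
        ({i, j, a, b} : Finset (Fin n))ᶜ = ∅ := fun i j a b hij hab hia hib hja hjb => by
      rw [Finset.compl_eq_empty_iff]
      refine Finset.eq_univ_of_card _ ?_
      rw [Finset.card_insert_of_notMem (by simp [hij, hia, hib]), Finset.card_insert_of_notMem (by simp [hja, hjb]),
        Finset.card_insert_of_notMem (by simp [hab]), Finset.card_singleton, Fintype.card_fin, hn]
    have hK : ∀ i j a b : Fin n, i ≠ j → a ≠ b → i ≠ a → i ≠ b → j ≠ a → j ≠ b →
        -∑ l ∈ ({i, j, a, b} : Finset (Fin n))ᶜ, G l * u l = 0 := fun i j a b hij hab hia hib hja hjb => by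
      rw [hu4 i j a b hij hab hia hib hja hjb, Finset.sum_empty, neg_zero]
    rcases hd with ⟨ν₁, ν₂, ν', h1, h2, h3, h4, h5, h6⟩ | ⟨ν₁, ν₂, ν', h1, h2, h3, h4, h5, h6⟩
    · exact key i j a b hij hab hia hib hja hjb ν₁ ν₂ ν' h1 h2 h3 h4
        (by rw [hK i j a b hij hab hia hib hja hjb]; exact h5) (by rw [hK i j a b hij hab hia hib hja hjb]; exact h6)
    · exact key a b i j hab hij hia.symm hja.symm hib.symm hjb.symm ν₁ ν₂ ν' h1 h2 h3 h4
        (by rw [hK a b i j hab hij hia.symm hja.symm hib.symm hjb.symm]; exact h5)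
        (by rw [hK a b i j hab hij hia.symm hja.symm hib.symm hjb.symm]; exact h6)
  let l₁ : Fin n := ⟨1, by omega⟩
  let l₂ : Fin n := ⟨2, by omega⟩
  let l₃ : Fin n := ⟨3, by omega⟩
  by_cases h2 : (2 : F) = 0
  · haveI : CharP F 2 := CharTwo.of_one_ne_zero_of_two_eq_zero one_ne_zero h2
    have hsq : ∀ a b : F, a ≠ b → a * a ≠ b * b := fun a b hab e => hab (CharTwo.sq_injective (by
      simpa [pow_two] using e))
    refine finish c l₁ l₂ l₃ (by simp [c, l₁]) (by simp [l₂, l₃]) (by simp [c, l₂]) (by simp [c, l₃])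
      (by simp [l₁, l₂]) (by simp [l₁, l₃]) ?_
    rcases exists_double hF (hne c l₁) (hne l₂ l₃) (z := (0 : F)) (zero_pow hq0) with
      ⟨ν₁, ν₂, ν', h1, h2', h3, h4, h5, h6⟩ | ⟨ν₁, ν₂, ν', h1, h2', h3, h4, h5, h6⟩
    · exact Or.inl ⟨ν₁, ν₂, ν', h1, h2', h3, hsq _ _ h4, h5, h6⟩
    · exact Or.inr ⟨ν₁, ν₂, ν', h1, h2', h3, hsq _ _ h4, h5, h6⟩
  have hq5 : 5 ≤ q := by
    by_contra hlt
    have hq4 : q = 4 := by omega
    subst hq4
    haveI : CharP F 2 := charP_of_card_eq_prime_pow (f := 4) (by rw [hF]; norm_num)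
    exact h2 CharTwo.two_eq_zero
  -- a pair with square product
  have main : ∀ i j a b : Fin n, i ≠ j → a ≠ b → i ≠ a → i ≠ b → j ≠ a → j ≠ b → IsSquare (G i * G j) →
      ∃ x ∈ M, ¬ IsMonom x ∧ ∃ c d, (((x : GL (Fin n) F) : Mat) *ᵥ Pi.single c 1) d = 0 := by
    intro i j a b hij hab hia hib hja hjb hsq
    obtain ⟨s, hs⟩ := hsq
    have hA := hne i j
    refine finish i j a b hij hab hia hib hja hjb (exists_double_odd hF hq5 h2 hA (hne a b)
      (μ := s ^ (q + 1) / (G i * u j)) ?_ (by rw [div_mul_cancel₀ _ hA, norm_pow_q hF]))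
    have e1 : (G i * u j) ^ (q + 1) = (s ^ (q + 1)) ^ 2 := by
      rw [hul, mul_pow, ← pow_mul (G j), mul_comm q, pow_mul, norm_pow_q hF, ← mul_pow, hs, mul_pow]
      ring
    rw [div_pow, e1, pow_succ, norm_pow_q hF, ← pow_two, div_self]
    rw [← e1]
    exact pow_ne_zero _ hA
  rcases exists_pair_square hF (hz c c) (hz l₁ c) (hz l₂ c) with hsq | hsq | hsq
  · exact main c l₁ l₂ l₃ (by simp [c, l₁]) (by simp [l₂, l₃]) (by simp [c, l₂]) (by simp [c, l₃])
      (by simp [l₁, l₂]) (by simp [l₁, l₃]) hsq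
  · exact main c l₂ l₁ l₃ (by simp [c, l₂]) (by simp [l₁, l₃]) (by simp [c, l₁]) (by simp [c, l₃])
      (by simp [l₁, l₂]) (by simp [l₂, l₃]) hsq
  · exact main l₁ l₂ c l₃ (by simp [l₁, l₂]) (by simp [c, l₃]) (by simp [c, l₁]) (by simp [l₁, l₃])
      (by simp [c, l₂]) (by simp [l₂, l₃]) hsq

/-- Mixing is not total in dimension four. -/
theorem not_spreading₄ (hn : n = 4) (hq : 4 ≤ q) (hMK : M ≤ G₁) (hdiag : HasDiag q M)
    (hmono : ∀ m ∈ G₁, IsMonom m → m ∈ M) (hspread : Spreading M) {g : GL (Fin n) F} (hg : g ∈ M)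
    (hgm : ¬ IsMonom g) : False := by
  have hq0 : q ≠ 0 := by omega
  obtain ⟨x, hx, hxm, c, d, hcd⟩ := exists_zero₄ hF hn hq hMK hmono hg hgm
  set r₂ := ((x⁻¹ : GL (Fin n) F) : Mat) *ᵥ Pi.single d 1 with hr₂
  have hr₂c : r₂ c = 0 := by rw [hr₂, inv_entry hF (hMK hx).1, hcd, zero_pow hq0]
  have hr₂l : ∀ l, l ≠ c → r₂ l ≠ 0 := fun l hl h0 =>
    hl (one_zero_col₄ hF hMK hdiag hspread hq (M.inv_mem hx) (fun h' => hxm (monom_inv h')) h0 hr₂c)
  obtain ⟨η, hη, hη4⟩ := exists_pow_four_ne hF hq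
  have hηn : η ^ n ≠ 1 := by rw [hn]; exact hη4
  have hηη := norm_one_conj hF hη
  set θ := (η ^ q) ^ n with hθ
  have hθn : θ ^ (q + 1) = 1 := by
    rw [hθ, ← pow_mul, ← pow_mul, show q * (n * (q + 1)) = (q + 1) * (q * n) by ring, pow_mul, hη, one_pow]
  have hθθ : η ^ n * θ = 1 := by rw [hθ, ← mul_pow, hηη, one_pow]
  have hθ1 : θ ≠ 1 := fun h0 => hηn (by rwa [h0, mul_one] at hθθ)
  let δ : Fin n → F := fun l => η * if l = d then θ else 1
  have hδ : ∀ l, δ l ^ (q + 1) = 1 := fun l => by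
    simp only [δ, mul_pow, hη, one_mul]
    split_ifs
    · exact hθn
    · exact one_pow _
  have hδp : ∏ l, δ l = 1 := by
    simp only [δ, Finset.prod_mul_distrib, Finset.prod_const, Finset.card_univ, Fintype.card_fin,
      Finset.prod_ite_eq', Finset.mem_univ, if_true]
    exact hθθ
  set y := x⁻¹ * (guDiag (q := q) δ hδ).1 * x with hy
  have hyM : y ∈ M := M.mul_mem (M.mul_mem (M.inv_mem hx) (hdiag δ hδ hδp)) hx
  have hyv : ∀ v, (y : Mat) *ᵥ v = η • v + (η * (θ - 1) * ((x : Mat) *ᵥ v) d) • r₂ := by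
    intro v
    rw [hy, Units.val_mul, Units.val_mul, ← Matrix.mulVec_mulVec, ← Matrix.mulVec_mulVec]
    have : ((guDiag (q := q) δ hδ).1 : Mat) *ᵥ ((x : Mat) *ᵥ v) =
        η • ((x : Mat) *ᵥ v) + (η * (θ - 1) * ((x : Mat) *ᵥ v) d) • Pi.single d 1 := by
      funext l
      simp only [guDiag, Matrix.mulVec_diagonal, δ, Pi.add_apply, Pi.smul_apply, Pi.single_apply, smul_eq_mul]
      split_ifs with hl
      · subst hl; ring
      · ring
    rw [this, Matrix.mulVec_add, Matrix.mulVec_smul, Matrix.mulVec_smul, gl_inv_mulVec, hr₂]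
  have hyc : (y : Mat) *ᵥ Pi.single c 1 = η • Pi.single c 1 := by rw [hyv, hcd, mul_zero, zero_smul, add_zero]
  have hmon := hspread y hyM c (by rw [hyc]; exact isAxis_smul_single η c)
  obtain ⟨i, -, hi⟩ := Finset.exists_mem_notMem_of_card_lt_card (s := ({c} : Finset (Fin n))) (t := Finset.univ)
    (by simp; omega)
  obtain ⟨l, -, hl⟩ := Finset.exists_mem_notMem_of_card_lt_card (s := ({c, i} : Finset (Fin n))) (t := Finset.univ)
    (lt_of_le_of_lt Finset.card_le_two (by simp; omega))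
  obtain ⟨l', -, hl'⟩ := Finset.exists_mem_notMem_of_card_lt_card (s := ({c, i, l} : Finset (Fin n)))
    (t := Finset.univ) (lt_of_le_of_lt Finset.card_le_three (by simp; omega))
  simp only [Finset.mem_insert, Finset.mem_singleton, not_or] at hi hl hl'
  have hxi : ((x : Mat) *ᵥ Pi.single i 1) d ≠ 0 := fun h0 => hr₂l i hi (by
    rw [hr₂, inv_entry hF (hMK hx).1, h0, zero_pow hq0])
  have hne : ∀ o, o ≠ c → o ≠ i → ((y : Mat) *ᵥ Pi.single i 1) o ≠ 0 := fun o hoc hoi => by
    rw [hyv]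
    simp only [Pi.add_apply, Pi.smul_apply, Pi.single_eq_of_ne hoi, smul_eq_mul, mul_zero, zero_add]
    exact mul_ne_zero (mul_ne_zero (mul_ne_zero (left_ne_zero_of_mul (by rw [hηη]; exact one_ne_zero))
      (sub_ne_zero.mpr hθ1)) hxi) (hr₂l o hoc)
  exact hl'.2.2 (hmon i l' l (hne l' hl'.1 hl'.2.1) (hne l hl.1 hl.2))

/-- For `q > 2` an overgroup of the monomial group with a mixed element is `SU`. -/
theorem su_le_of_monomial_generic (hn : 4 ≤ n) (hq : 3 ≤ q) (hMK : M ≤ G₁) (hmono : ∀ m ∈ G₁, IsMonom m → m ∈ M)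
    (hdiag : HasDiag q M) {g : GL (Fin n) F} (hg : g ∈ M) (hgm : ¬ IsMonom g) 
    (hns : Spreading M → False) : G₁ ≤ M := by
  have hf := Herm.isUnitary_std (n := n) hF
  let l₀ : Fin n := ⟨0, by omega⟩
  have hperm : ∀ π : Equiv.Perm (Fin n), ∃ m ∈ M, ∃ s : Fin n → F, (∀ l, s l ^ (q + 1) = 1) ∧
      ∀ v : Fin n → F, ((m : GL (Fin n) F) : Mat) *ᵥ v = fun l => s l * v (π.symm l) := fun π => by
    obtain ⟨m, hm, s, hs, hmv⟩ := exists_mono hF π l₀
    exact ⟨m, hmono m hm (isMonom_of_mono hmv), s, hs, hmv⟩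
  have hs0 : ∀ {a : F}, a ^ (q + 1) = 1 → a ≠ 0 := fun ha h0 => by
    rw [h0, zero_pow (by omega)] at ha; exact zero_ne_one ha
  by_cases hmix : ∃ y ∈ M, ∃ (c a : Fin n) (ρ : F), ((y : GL (Fin n) F) : Mat) *ᵥ Pi.single c 1 =
      ρ • Pi.single c 1 ∧ ¬ IsAxis ((y : Mat) *ᵥ Pi.single a 1)
  · obtain ⟨y, hy, c, a, ρ, hyc, hya⟩ := hmix
    have hac : a ≠ c := fun e => hya (by rw [e, hyc]; exact isAxis_smul_single ρ c)
    obtain ⟨i, j, hij, hW⟩ := exists_plane_low hF hq hMK hdiag _ c _
      (inO_conj hF hMK (inO_single hF hdiag hac) hy hyc) hya le_rfl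
    refine su_le_of_weight_two hF hq (by omega) hMK hdiag fun i' j' a' b' hij' hab => ?_
    let π : Equiv.Perm (Fin n) := Equiv.swap (Equiv.swap i i' j) j' * Equiv.swap i i'
    have hπi : π i = i' := by
      simp only [π, Equiv.Perm.mul_apply, Equiv.swap_apply_left]
      refine Equiv.swap_apply_of_ne_of_ne (fun e => hij ?_) hij'
      have := congrArg (Equiv.swap i i') e
      rwa [Equiv.swap_apply_self, Equiv.swap_apply_right] at this
    have hπj : π j = j' := by simp [π]
    obtain ⟨m, hm, s, hs, hmv⟩ := hperm π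
    have h1 := Herm.centres_conj hf (fun g hg => (hMK hg).1) hm (hW (a' / s i') (b' / s j') (by
      rw [div_pow, div_pow, hs, hs, div_one, div_one]; exact hab))
    convert h1 using 1
    rw [hmv]
    funext l
    have hli : π.symm l = i ↔ l = i' := by rw [Equiv.symm_apply_eq, hπi]
    have hlj : π.symm l = j ↔ l = j' := by rw [Equiv.symm_apply_eq, hπj]
    by_cases h2 : l = i'
    · subst h2
      simp [hli.mpr rfl, hij, hij', mul_div_cancel₀ _ (hs0 (hs l))]
    by_cases h3 : l = j'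
    · subst h3
      simp [hlj.mpr rfl, hij.symm, h2, mul_div_cancel₀ _ (hs0 (hs l))]
    simp [h2, h3, mt hli.mp h2, mt hlj.mp h3]
  exfalso
  push Not at hmix
  have hspread : Spreading M := fun m hm c hc a => by
    obtain ⟨l, ρ, -, hl⟩ := exists_axis hc (gl_single_ne_zero m c)
    obtain ⟨P, hP, s, hs, hPv⟩ := hperm (Equiv.swap c l)
    have h1 := hmix (P * m) (M.mul_mem hP hm) c a (s c * ρ) (by
      rw [Units.val_mul, ← Matrix.mulVec_mulVec, hl, hPv]
      funext o
      by_cases ho : o = c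
      · subst ho; simp
      · have : (Equiv.swap c l) o ≠ l := fun e => ho (by
          have := congrArg (Equiv.swap c l) e
          rwa [Equiv.swap_apply_self, Equiv.swap_apply_right] at this)
        simp [ho, this])
    intro i j hi hj
    refine (Equiv.swap c l).injective (h1 _ _ ?_ ?_) <;>
      rw [Units.val_mul, ← Matrix.mulVec_mulVec, hPv] <;>
      simp only [Equiv.symm_swap, Equiv.swap_apply_self]
    · exact mul_ne_zero (hs0 (hs _)) hi
    · exact mul_ne_zero (hs0 (hs _)) hj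
  exact hns hspread

omit hF in
/-- For `q = 2` an overgroup of the monomial group with a mixed element is `SU`. -/
theorem su_le_of_monomial_two (hF : Fintype.card F = 2 ^ 2) (hn : n = 4)
    (hMK : M ≤ Cfsg.GU n F 2 ⊓ Cfsg.Geo.specialLinear (Fin n) F)
    (hmono : ∀ m ∈ Cfsg.GU n F 2 ⊓ Cfsg.Geo.specialLinear (Fin n) F, IsMonom m → m ∈ M)
    (hdiag : HasDiag 2 M) {g : GL (Fin n) F} (hg : g ∈ M) (hgm : ¬ IsMonom g) :
    Cfsg.GU n F 2 ⊓ Cfsg.Geo.specialLinear (Fin n) F ≤ M := by
  have hf := Herm.isUnitary_std (n := n) hF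
  have h2 : (2 : F) = 0 := four_two_eq_zero hF
  haveI : CharP F 2 := charP_of_card_eq_prime_pow (f := 2) hF
  have hiso : ∀ m ∈ M, ∀ a b, Cfsg.hermForm n F 2 ((m : Mat) *ᵥ a) ((m : Mat) *ᵥ b) = Cfsg.hermForm n F 2 a b := fun m hm => (hMK hm).1
  let sp : (Fin n → F) → Finset (Fin n) := fun v => Finset.univ.filter fun l => v l ≠ 0
  have hW : ∀ (i j : Fin n) (a b : F), i ≠ j → a ^ (2 + 1) + b ^ (2 + 1) = 0 →
      (a • Pi.single i 1 + b • Pi.single j 1 : Fin n → F) ∈ Herm.centres hf M :=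
    fun i j a b hij hab => weight_two_centres hF rfl hMK hmono i j a b hij hab
  have hcast : ∀ v, Cfsg.hermForm n F 2 v v = ((sp v).card : F) := fun v => herm_self_eq_card hF v
  have heven : ∀ v, Cfsg.hermForm n F 2 v v = 0 → 2 ∣ (sp v).card := fun v hv => by
    rw [hcast] at hv; exact (CharP.cast_eq_zero_iff F 2 _).mp hv
  have hle : ∀ v, (sp v).card ≤ 4 := fun v => (Finset.card_le_univ _).trans_eq (by rw [Fintype.card_fin, hn])
  -- a column of weight three
  unfold IsMonom IsAxis at hgm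
  push Not at hgm
  obtain ⟨d, i, j, hi, hj, hij⟩ := hgm
  set r := (g : Mat) *ᵥ Pi.single d 1 with hr
  have hr2 : 2 ≤ (sp r).card := Finset.one_lt_card_iff.mpr
    ⟨i, j, Finset.mem_filter.mpr ⟨Finset.mem_univ _, hi⟩, Finset.mem_filter.mpr ⟨Finset.mem_univ _, hj⟩, hij⟩
  have hrodd : ¬ 2 ∣ (sp r).card := fun hd => one_ne_zero (α := F) (by
    have h1 : Cfsg.hermForm n F 2 r r = 1 := by rw [hr, hiso g hg, herm_single_right hF, Pi.single_eq_same]
    rw [← h1, hcast]
    exact (CharP.cast_eq_zero_iff F 2 _).mpr hd)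
  obtain ⟨c, hc⟩ : ∃ c, r c = 0 := by
    by_contra hall
    push Not at hall
    refine hrodd ?_
    rw [show sp r = Finset.univ from Finset.filter_true_of_mem fun l _ => hall l, Finset.card_univ, Fintype.card_fin,
      hn]
    norm_num
  have hr3 : (sp r).card = 3 := by have := hle r; omega
  have hrl : ∀ l, l ≠ c → r l ≠ 0 := fun l hl h0 => by
    have hsub : sp r ⊆ (Finset.univ.erase c).erase l := fun o ho => by
      simp only [sp, Finset.mem_filter, Finset.mem_erase, Finset.mem_univ, and_true, true_and] at ho ⊢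
      exact ⟨fun e => ho (e ▸ h0), fun e => ho (e ▸ hc)⟩
    have := Finset.card_le_card hsub
    rw [Finset.card_erase_of_mem (by simp [hl]), Finset.card_erase_of_mem (Finset.mem_univ _), Finset.card_univ,
      Fintype.card_fin] at this
    omega
  -- a column through the zero
  obtain ⟨k, hk⟩ : ∃ k, ((g : Mat) *ᵥ Pi.single k 1) c ≠ 0 := by
    by_contra hall
    push Not at hall
    refine gl_single_ne_zero g⁻¹ c (funext fun l => ?_)
    rw [inv_entry hF (hMK hg).1, hall, zero_pow two_ne_zero]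
    rfl
  have hkd : d ≠ k := fun e => hk (by rw [← e, ← hr]; exact hc)
  set r' := (g : Mat) *ᵥ Pi.single k 1 with hr'
  obtain ⟨w, hw0, hw1, -, hw3⟩ := exists_omega_two hF
  have hz : ∀ ν : F, ν ^ 3 = 1 → r + ν • r' ∈ Herm.centres hf M := fun ν hν => by
    have h1 := Herm.centres_conj hf hiso hg (hW d k 1 ν hkd (by rw [one_pow, hν]; linear_combination h2))
    rwa [one_smul, Matrix.mulVec_add, Matrix.mulVec_smul] at h1
  -- weight two cancels twice
  obtain ⟨r₄, hr₄, hr₄4⟩ : ∃ v ∈ Herm.centres hf M, (sp v).card = 4 := by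
    by_contra hall
    push Not at hall
    have hzero : ∀ ν : F, ν ^ 3 = 1 → 2 ≤ ((Finset.univ.erase c).filter fun l => r l + ν * r' l = 0).card := by
      intro ν hν
      set v := r + ν • r' with hv
      have hvC := hz ν hν
      have hν0 : ν ≠ 0 := fun h0 => by simp [h0] at hν
      have hvc : v c ≠ 0 := by simp [hv, hc, hν0, hk]
      have h4 := hall v hvC
      have hev := heven v hvC.1
      have hle' := hle v
      have hpos : 0 < (sp v).card := Finset.card_pos.mpr ⟨c, Finset.mem_filter.mpr ⟨Finset.mem_univ _, hvc⟩⟩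
      have hsub : Finset.univ \ sp v ⊆ (Finset.univ.erase c).filter fun l => r l + ν * r' l = 0 := fun l hl => by
        simp only [sp, Finset.mem_sdiff, Finset.mem_filter, Finset.mem_univ, true_and, not_not] at hl
        rw [Finset.mem_filter, Finset.mem_erase]
        exact ⟨⟨fun e => hvc (e ▸ hl), Finset.mem_univ _⟩, by simpa [hv] using hl⟩
      have := Finset.card_le_card hsub
      rw [Finset.card_univ_diff, Fintype.card_fin] at this
      omega
    have hdis : Disjoint ((Finset.univ.erase c).filter fun l => r l + 1 * r' l = 0)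
        ((Finset.univ.erase c).filter fun l => r l + w * r' l = 0) := by
      rw [Finset.disjoint_filter]
      intro l hl h1 hw'
      rw [Finset.mem_erase] at hl
      have : (1 - w) * r' l = 0 := by linear_combination h1 - hw'
      rcases mul_eq_zero.mp this with e | e
      · exact hw1 (sub_eq_zero.mp e).symm
      · exact hrl l hl.1 (by simpa [e] using h1)
    have hu := Finset.card_union_of_disjoint hdis
    have hsub := Finset.card_le_card (Finset.union_subset (Finset.filter_subset (fun l => r l + 1 * r' l = 0)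
      (Finset.univ.erase c)) (Finset.filter_subset (fun l => r l + w * r' l = 0) (Finset.univ.erase c)))
    rw [Finset.card_erase_of_mem (Finset.mem_univ _), Finset.card_univ, Fintype.card_fin] at hsub
    have h1 := hzero 1 (one_pow 3)
    have h2' := hzero w hw3
    omega
  have hall4 : ∀ l, r₄ l ≠ 0 := fun l h0 => by
    have : sp r₄ ⊆ Finset.univ.erase l := fun o ho => by
      simp only [sp, Finset.mem_filter, Finset.mem_erase, Finset.mem_univ, and_true, true_and] at ho ⊢
      exact fun e => ho (e ▸ h0)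
    have := Finset.card_le_card this
    rw [Finset.card_erase_of_mem (Finset.mem_univ _), Finset.card_univ, Fintype.card_fin] at this
    omega
  -- all centres
  refine Herm.su_le_of_uT hF (by omega) fun v hvv e he => ?_
  suffices hvC : v ∈ Herm.centres hf M from hvC.2 e he
  have hev := heven v hvv
  have hle' := hle v
  rcases (show (sp v).card = 0 ∨ (sp v).card = 2 ∨ (sp v).card = 4 by omega) with h0 | h2' | h4
  · have hv0 : v = 0 := funext fun l => by
      by_contra hl
      exact Finset.notMem_empty l (Finset.card_eq_zero.mp h0 ▸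
        (Finset.mem_filter.mpr ⟨Finset.mem_univ l, hl⟩ : l ∈ sp v))
    subst hv0
    refine ⟨hvv, fun e' he' => ?_⟩
    convert M.one_mem using 1
    exact gl_ext fun x => by rw [Herm.uT_mulVec]; simp
  · obtain ⟨i, j, hij, hset⟩ := Finset.card_eq_two.mp h2'
    have hout : ∀ l, l ≠ i → l ≠ j → v l = 0 := fun l hl hl' => by
      by_contra hne
      have : l ∈ sp v := Finset.mem_filter.mpr ⟨Finset.mem_univ _, hne⟩
      simp [hset, hl, hl'] at this
    have hmem : ∀ l ∈ sp v, v l ≠ 0 := fun l hl => (Finset.mem_filter.mp hl).2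
    rw [eq_two_coords v hij hout]
    refine hW i j (v i) (v j) hij ?_
    rw [four_pow_three hF (hmem i (by simp [hset])), four_pow_three hF (hmem j (by simp [hset]))]
    linear_combination h2
  · have hvl : ∀ l, v l ≠ 0 := fun l hl => by
      have : sp v ⊆ Finset.univ.erase l := fun o ho => by
        simp only [sp, Finset.mem_filter, Finset.mem_erase, Finset.mem_univ, and_true, true_and] at ho ⊢
        exact fun e => ho (e ▸ hl)
      have := Finset.card_le_card this
      rw [Finset.card_erase_of_mem (Finset.mem_univ _), Finset.card_univ, Fintype.card_fin] at this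
      omega
    set P := ∏ l, v l / r₄ l with hP
    have hP0 : P ≠ 0 := Finset.prod_ne_zero_iff.mpr fun l _ => div_ne_zero (hvl l) (hall4 l)
    have hP3 := four_pow_three hF hP0
    let δ : Fin n → F := fun l => v l / r₄ l / P
    have hδ : ∀ l, δ l ^ (2 + 1) = 1 := fun l =>
      four_pow_three hF (div_ne_zero (div_ne_zero (hvl l) (hall4 l)) hP0)
    have hδp : ∏ l, δ l = 1 := by
      simp only [δ, Finset.prod_div_distrib (g := fun _ => P), Finset.prod_const, Finset.card_univ, Fintype.card_fin,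
        hn, ← hP]
      rw [show P ^ 4 = P by linear_combination P * hP3, div_self hP0]
    have h1 := Herm.centres_smul hf (Herm.centres_conj hf hiso (hdiag δ hδ hδp) hr₄) P
    convert h1 using 1
    funext l
    simp [guDiag, Matrix.mulVec_diagonal, δ]
    field_simp [hall4 l, hP0]

/-- The stabiliser of coordinate lines is proper. -/
theorem std_proper₄ (hn : 4 ≤ n) (ht : 2 ≤ t) (hk : 0 < k)
    (idx : Fin t × Fin k ≃ Fin n) :
    ∃ x ∈ G₁, x ∉ Cfsg.Geo.decompositionStabilizer (stdDec F idx) ⊓ G₁ := by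
  classical
  have hf := Herm.isUnitary_std (n := n) hF
  let b : Fin n := idx (⟨0, by omega⟩, ⟨0, hk⟩)
  let c : Fin n := idx (⟨1, by omega⟩, ⟨0, hk⟩)
  have hbc : b ≠ c := fun e => by simpa using idx.injective e
  obtain ⟨a, ha⟩ := Finset.exists_mem_notMem_of_card_lt_card (s := ({b, c} : Finset (Fin n))) (t := Finset.univ)
    (lt_of_le_of_lt Finset.card_le_two (by simp; omega))
  obtain ⟨d, hd⟩ := Finset.exists_mem_notMem_of_card_lt_card (s := ({b, c, a} : Finset (Fin n))) (t := Finset.univ)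
    (lt_of_le_of_lt Finset.card_le_three (by simp; omega))
  simp only [Finset.mem_insert, Finset.mem_singleton, not_or, Finset.mem_univ, true_and] at ha hd
  obtain ⟨ν, hν⟩ := exists_norm_eq hF (μ := (-1 : F)) (by rw [← conjQ_apply hF, map_neg, map_one])
  have hν' : ν * ν ^ q = -1 := by rw [← pow_succ', hν]
  have hν0 : ν ≠ 0 := fun h0 => by simp [h0] at hν'
  obtain ⟨ζ, hζ, hζ0⟩ : ∃ ζ : F, Herm.frobQ hF ζ = -ζ ∧ ζ ≠ 0 := by
    obtain ⟨ζ, h0, h1⟩ := Herm.exists_skew hf; exact ⟨ζ, h1, h0⟩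
  set v : Fin n → F := Pi.single a 1 + ν • Pi.single b 1 + (Pi.single c 1 + ν • Pi.single d 1) with hv
  have hq0 : q ≠ 0 := by have := two_le_q hF; omega
  have hvv : h v v = 0 := by
    simp [hv, hermForm_add_left hF, hermForm_add_right hF, hermForm_smul_left hF, hermForm_smul_right hF,
      hermForm_single_left, Pi.single_apply, hbc, hbc.symm, ha.1, ha.2, Ne.symm ha.1, Ne.symm ha.2, hd.1, hd.2.1,
      hd.2.2, Ne.symm hd.1, Ne.symm hd.2.1, Ne.symm hd.2.2, zero_pow hq0, hν']
  refine ⟨Herm.uT hf hvv ζ, Herm.uT_mem_su hF hvv hζ, fun hh => ?_⟩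
  obtain ⟨τ, hτ⟩ := hh.1
  have himg : (Herm.uT hf hvv ζ : Mat) *ᵥ Pi.single a 1 ∈ stdDec F idx (τ (idx.symm a).1) := by
    rw [← hτ]
    exact ⟨_, single_mem_stdDec idx a 1, by simp⟩
  rw [Herm.uT_mulVec, hermForm_single_left, one_mul] at himg
  have hva : v a = 1 := by
    simp [hv, Pi.single_apply, ha.1, ha.2, Ne.symm hd.2.2]
  have hb : (idx.symm b).1 = τ (idx.symm a).1 := by
    by_contra hne
    have := himg b hne
    rw [hva, one_pow, mul_one] at this
    simp [hv, Pi.single_apply, Ne.symm ha.1, hbc, Ne.symm hd.1, hζ0, hν0] at this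
  have hc : (idx.symm c).1 = τ (idx.symm a).1 := by
    by_contra hne
    have := himg c hne
    rw [hva, one_pow, mul_one] at this
    simp [hv, Pi.single_apply, Ne.symm ha.2, hbc.symm, Ne.symm hd.2.1, hζ0] at this
  have := hb.trans hc.symm
  simp [b, c] at this

/-- The stabiliser of a decomposition into four lines is maximal. -/
theorem monomial_std_maximal₄ (hn : n = 4) (hq : q ≠ 3) (ht : 2 ≤ t) (hk : k = 1) (idx : Fin t × Fin k ≃ Fin n) :
    Cfsg.Geo.IsMaximalIn G₁ (Cfsg.Geo.decompositionStabilizer (stdDec F idx) ⊓ G₁) := by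
  subst hk
  refine isMaximalIn_of inf_le_right (std_proper₄ hF (by omega) ht one_pos idx) fun M hHM hMK g hg hgH => ?_
  have hdiag := hasDiag_of_le hHM
  let b : Fin t → Fin n := fun i => idx (i, 0)
  have hb : ∀ l, b (idx.symm l).1 = l := fun l => by
    simp only [b]
    rw [show ((idx.symm l).1, (0 : Fin 1)) = idx.symm l from Prod.ext rfl (Subsingleton.elim _ _),
      Equiv.apply_symm_apply]
  have hstab : ∀ m ∈ G₁, IsMonom m → m ∈ Cfsg.Geo.decompositionStabilizer (stdDec F idx) := by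
    intro m hm hmon
    choose π a ha hπ using fun l => exists_axis (hmon l) (gl_single_ne_zero m l)
    have hinj : Function.Injective π := fun l l' he => by
      by_contra hne
      have h1 : (m : Mat) *ᵥ (a l' • Pi.single l 1 - a l • Pi.single l' 1) = (m : Mat) *ᵥ 0 := by
        rw [Matrix.mulVec_sub, Matrix.mulVec_smul, Matrix.mulVec_smul, hπ, hπ, he, Matrix.mulVec_zero, smul_smul,
          smul_smul, mul_comm, sub_self]
      simpa [hne, ha l'] using congrFun (gl_mulVec_injective m h1) l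
    let p : Equiv.Perm (Fin n) := Equiv.ofBijective π (Finite.injective_iff_bijective.mp hinj)
    obtain ⟨m₀, -, s, hs, hm₀⟩ := exists_mono hF p ⟨0, by omega⟩
    have hs0 : ∀ l, s l ≠ 0 := fun l h0 => by
      have := hs l; rw [h0, zero_pow (by omega)] at this; exact zero_ne_one this
    let e : Fin t ≃ Fin n := (Equiv.prodUnique (Fin t) (Fin 1)).symm.trans idx
    have h0 : m₀ ∈ Cfsg.Geo.decompositionStabilizer (stdDec F idx) := by
      refine mono_stab idx p ((e.trans p).trans e.symm) (fun l => ?_) hs0 hm₀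
      have : e (idx.symm l).1 = l := hb l
      simp only [Equiv.trans_apply, this]
      rfl
    have h1 : m₀⁻¹ * m ∈ Cfsg.Geo.decompositionStabilizer (stdDec F idx) := by
      refine stab_of_members fun i w hw => ?_
      have hw' : w = w (b i) • Pi.single (b i) 1 := by
        funext l
        by_cases hl : l = b i
        · subst hl; simp
        · rw [hw l (fun e => hl (by rw [← hb l, e]))]; simp [hl]
      rw [hw', Units.val_mul, ← Matrix.mulVec_mulVec, Matrix.mulVec_smul, hπ]
      have h2 : (m₀ : Mat) *ᵥ Pi.single (b i) 1 = s (π (b i)) • Pi.single (π (b i)) 1 := by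
        rw [hm₀]
        funext l
        by_cases hl : l = π (b i)
        · subst hl; simp [show p.symm (π (b i)) = b i from p.symm_apply_apply _]
        · have : p.symm l ≠ b i := fun e => hl (by rw [← e]; exact (p.apply_symm_apply l).symm)
          simp [hl, this]
      have h3 : ((m₀⁻¹ : GL (Fin n) F) : Mat) *ᵥ Pi.single (π (b i)) 1 = (s (π (b i)))⁻¹ • Pi.single (b i) 1 := by
        have := gl_inv_mulVec m₀ (Pi.single (b i) 1)
        rw [h2, Matrix.mulVec_smul] at this
        rw [← this, smul_smul, inv_mul_cancel₀ (hs0 _), one_smul]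
      rw [Matrix.mulVec_smul, Matrix.mulVec_smul, h3]
      refine Submodule.smul_mem _ _ (Submodule.smul_mem _ _ (Submodule.smul_mem _ _ ?_))
      have := single_mem_stdDec (F := F) idx (b i) 1
      simpa [b] using this
    simpa using Subgroup.mul_mem _ h0 h1
  have hmono : ∀ m ∈ G₁, IsMonom m → m ∈ M := fun m hm hmon => hHM ⟨hstab m hm hmon, hm⟩
  have hgm : ¬ IsMonom g := fun hh => hgH ⟨hstab g (hMK hg) hh, hMK hg⟩
  rcases (show q = 2 ∨ 4 ≤ q by have := two_le_q hF; omega) with hq2 | hq4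
  · subst hq2
    exact su_le_of_monomial_two hF hn hMK hmono hdiag hg hgm
  · exact su_le_of_monomial_generic hF (by omega) (by omega) hMK hmono hdiag hg hgm
      fun hspread => not_spreading₄ hF hn hq4 hMK hdiag hmono hspread hg hgm

end Cfsg.Agent.H60.SUFour
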