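import Cfsg.Agent.H60.SUFour.MonoFour

set_option autoImplicit false

/-!
# Monomial subgroups of `SU₄`
-/

namespace Cfsg.Agent.H60.SUFour

open Cfsg.Agent.H98 Cfsg.Agent.H3

/-- Conjunct (3) of the list for `SU₄`. -/
theorem su4_monomial_maximal {F : Type*} [Field F] [Fintype F] (q : ℕ) (hF : Fintype.card F = q ^ 2) (hq : q ≠ 3)
    (D : Fin 4 → Submodule F (Fin 4 → F))
    (hD : Cfsg.Geo.IsNondegenerateMDecomposition (Cfsg.hermForm 4 F q) 1 D) :
    Cfsg.Geo.IsMaximalIn (Cfsg.GU 4 F q ⊓ Cfsg.Geo.specialLinear (Fin 4) F)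
      (Cfsg.Geo.decompositionStabilizer D ⊓ (Cfsg.GU 4 F q ⊓ Cfsg.Geo.specialLinear (Fin 4) F)) :=
  maximal_of_std hF hD fun idx => monomial_std_maximal₄ hF rfl hq hD.decomp.two_le rfl idx

end Cfsg.Agent.H60.SUFour
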